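import Cfsg.Agent.H67.ChevTorusLang
import Cfsg.Agent.H46.TypeG2
import Cfsg.Agent.H65.Chev.FieldFixed

/-!
# Torus elements of prescribed order, without the regularity checks
-/

set_option autoImplicit false

namespace Cfsg.Agent.H48.G2Spec

open Cfsg.Lie Cfsg.Agent.H46 Cfsg.Agent.H65 Cfsg.Agent.H67.Chev
open scoped Matrix MatrixGroups

variable {D : ChevalleyDatum} {G : Good D} {T : TorusData D}

theorem twist_fixed_of_dvd {K : Type*} [Field K] {σ : K →+* K} {q N : ℕ} {ζ : Kˣ} {z : Fin D.rank → Kˣ}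
    (hσ : ∀ x, σ x = x ^ q)
    (hexp : ∀ s, s < D.nroots → (N : ℤ) ∣ expo T q (T.act s) - (q : ℤ) * expo T q s) (hζ : IsPrimitiveRoot ζ N)
    (hval : ∀ s, s < D.nroots → G.torusVal z s = ζ ^ expo T q s) :
    G.nProd T.L * mapGL D σ (G.torus z) * (G.nProd T.L)⁻¹ = G.torus z := by
  have hζpow : ∀ a b : ℤ, (N : ℤ) ∣ a - b → ζ ^ a = ζ ^ b := fun a b hab => by
    rw [← sub_add_cancel a b, zpow_add, (hζ.zpow_eq_one_iff_dvd _).2 hab, one_mul]
  set n : GL D.Idx K := G.nProd T.L
  have hnN : n ∈ D.monomialSubgroup K := G.nProd_mem T.L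
  have hperm : ∀ s : Fin D.nroots, (G.perm n s).val = T.act s := fun s => by
    rw [G.perm_nProd]; exact act_eq G s
  set t := G.torus z
  have hzpow : ∀ s, s < D.nroots → G.torusVal z (T.act s) = G.torusVal z s ^ q := by
    intro s hs
    have hs' : T.act s < D.nroots := (hperm ⟨s, hs⟩) ▸ Fin.isLt _
    rw [hval s hs, hval _ hs', ← zpow_natCast (ζ ^ expo T q s) q, ← zpow_mul]
    refine hζpow _ _ ?_
    rw [mul_comm (expo T q s)]
    exact hexp s hs
  have hσt : mapGL D σ t = G.torus fun k => z k ^ q := by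
    rw [mapGL_torus G]
    congr 1
    funext k
    exact Units.ext (by simpa using hσ (z k : K))
  obtain ⟨w, hw⟩ := G.mem_diagonal.1 (G.diagonal_normalized hnN (G.mem_diagonal.2 ⟨_, hσt⟩))
  rw [hw]
  have key : ∀ s : Fin D.nroots, G.torusVal w (G.perm n s) = G.torusVal z (G.perm n s) := fun s => by
    rw [torusVal_conj hnN _ w s (by rw [← hσt]; exact hw), hperm, hzpow s s.2]
    simp only [Good.torusVal, ← Finset.prod_pow]
    exact Finset.prod_congr rfl fun k _ => by
      simp only [← zpow_natCast, ← zpow_mul]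
      congr 1
      ring
  have h1 : w / z ∈ (G.torus (F := K)).ker := by
    rw [MonoidHom.mem_ker, G.torus_eq_one_iff]
    intro s hs
    obtain ⟨s', hs'⟩ := (G.perm n).surjective ⟨s, hs⟩
    have hk := key s'
    rw [hs'] at hk
    have := G.torusVal_mul (w / z) z s
    rw [div_mul_cancel] at this
    rw [hk] at this
    exact mul_eq_right.1 this.symm
  rw [MonoidHom.mem_ker, map_div, div_eq_one] at h1
  exact h1

/-- An element whose order is the prescribed divisor. -/
theorem exists_orderOf_torus (hd : T.d = 1) (hU : Unimod D G.tab) {F : Type*} [Field F] [Fintype F] (q : ℕ)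
    (hF : Fintype.card F = q) (N : ℕ) (hNpos : 0 < N) (hα : T.α₀ < D.nroots) (hbase : expo T q T.α₀ = 1)
    (hexp : ∀ s, s < D.nroots → (N : ℤ) ∣ expo T q (T.act s) - (q : ℤ) * expo T q s) (hNq : Nat.Coprime N q) :
    ∃ g : ↥(D.group F), orderOf g = N := by
  classical
  subst hF
  set q := Fintype.card F with hqdef
  have hq : 2 ≤ q := Fintype.one_lt_card
  let K := AlgebraicClosure F
  let ι := algebraMap F K
  obtain ⟨p, hp⟩ := CharP.exists F
  have hpprime : p.Prime := CharP.char_is_prime F p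
  have : Fact p.Prime := ⟨hpprime⟩
  have : CharP K p := charP_of_injective_algebraMap ι.injective p
  obtain ⟨a, -, ha⟩ := FiniteField.card F p
  let σ : K ≃+* K := iterateFrobeniusEquiv K p a
  have hσ : ∀ x, σ x = x ^ q := fun x => by
    rw [hqdef, ha]; exact iterateFrobeniusEquiv_def K p a x
  have hfix : ∀ x, σ x = x ↔ x ∈ Set.range ι := by
    intro x
    rw [hσ]
    constructor
    · intro hx
      by_contra hne
      let S : Finset K := insert x (Finset.univ.image ι)
      have hcard : q + 1 ≤ S.card := by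
        rw [Finset.card_insert_of_notMem, Finset.card_image_of_injective _ ι.injective, Finset.card_univ]
        simpa using hne
      have hroots : S ⊆ (Polynomial.X ^ q - Polynomial.X : Polynomial K).roots.toFinset := by
        intro y hy
        rw [Multiset.mem_toFinset, Polynomial.mem_roots (FiniteField.X_pow_card_sub_X_ne_zero K hq)]
        rcases Finset.mem_insert.1 hy with rfl | hy
        · simp [hx]
        · obtain ⟨z, -, rfl⟩ := Finset.mem_image.1 hy
          simp [← map_pow, hqdef, FiniteField.pow_card]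
      have := (Finset.card_le_card hroots).trans ((Multiset.toFinset_card_le _).trans
        (Polynomial.card_roots' _))
      rw [FiniteField.X_pow_card_sub_X_natDegree_eq K hq] at this
      omega
    · rintro ⟨z, rfl⟩
      rw [← map_pow, hqdef, FiniteField.pow_card]
  -- a primitive root of unity of order `N`
  have hNK : (N : K) ≠ 0 := by
    rw [Ne, CharP.cast_eq_zero_iff K p]
    intro h
    refine hpprime.ne_one (Nat.eq_one_of_dvd_coprimes hNq h ?_)
    show p ∣ Fintype.card F
    rw [ha]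
    exact dvd_pow_self p a.ne_zero
  have : NeZero (N : K) := ⟨hNK⟩
  obtain ⟨ζ₀, hζ₀⟩ := HasEnoughRootsOfUnity.exists_primitiveRoot K N
  obtain ⟨ζ, rfl⟩ : IsUnit ζ₀ := hζ₀.isUnit hNpos.ne'
  have hζ : IsPrimitiveRoot ζ N := IsPrimitiveRoot.coe_units_iff.1 hζ₀
  have hζpow : ∀ a b : ℤ, (N : ℤ) ∣ a - b → ζ ^ a = ζ ^ b := fun a b hab => by
    rw [← sub_add_cancel a b, zpow_add, (hζ.zpow_eq_one_iff_dvd _).2 hab, one_mul]
  let z : Fin D.rank → Kˣ := fun k =>
    ζ ^ (∑ i : Fin D.rank, (T.B.getD k []).getD i 0 * (q : ℤ) ^ (i : ℕ))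
  have hval : ∀ s, s < D.nroots → G.torusVal z s = ζ ^ expo T q s := by
    intro s hs
    simp only [Good.torusVal, z, ← zpow_mul]
    rw [Finset.prod_congr rfl fun k (_ : k ∈ Finset.univ) => by rw [← G.cartan_eq hs k.2]]
    have hsum : ∀ (S : Finset (Fin D.rank)) (f : Fin D.rank → ℤ), (∏ k ∈ S, ζ ^ f k) = ζ ^ ∑ k ∈ S, f k := by
      intro S f
      induction S using Finset.induction_on with
      | empty => simp
      | insert b S hb ih => rw [Finset.prod_insert hb, Finset.sum_insert hb, zpow_add, ih]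
    rw [hsum, expo_eq]
    congr 1
    have e : ∀ i, T.eC s i = ∑ k : Fin D.rank, (T.B.getD k []).getD i 0 * D.cartan k s := fun i => by
      rw [TorusData.eC, hd, Nat.cast_one, Int.ediv_one, Fin.sum_univ_eq_sum_range (fun k => (T.B.getD k []).getD i 0 * D.cartan k s)]
      rfl
    simp only [e, Finset.sum_mul]
    rw [Finset.sum_comm]
    exact Finset.sum_congr rfl fun i _ => Finset.sum_congr rfl fun k _ => by ring
  set n : GL D.Idx K := G.nProd T.L
  have hnN : n ∈ D.monomialSubgroup K := G.nProd_mem T.L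
  set t := G.torus z
  have htwist : n * mapGL D (σ : K →+* K) t * n⁻¹ = t :=
    twist_fixed_of_dvd (fun x => hσ x) hexp hζ hval
  have hnG : n ∈ D.group K := G.monomial_le_group hnN
  obtain ⟨g, hg, hgn⟩ := lang G hq (σ := (σ : K →+* K)) (fun x => hσ x) hnG
  have hσg : mapGL D (σ : K →+* K) g = g * n := by rw [← hgn, mul_inv_cancel_left]
  have htG : t ∈ D.group K := G.diagonal_le_group (G.mem_diagonal.2 ⟨z, rfl⟩)
  have hx0fix : mapGL D (σ : K →+* K) (g * t * g⁻¹) = g * t * g⁻¹ := by
    rw [map_mul, map_mul, map_inv, hσg]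
    calc g * n * mapGL D (σ : K →+* K) t * (g * n)⁻¹ = g * (n * mapGL D (σ : K →+* K) t * n⁻¹) * g⁻¹ := by group
      _ = _ := by rw [htwist]
  obtain ⟨x, hx, hxe⟩ := group_fixed G ι σ hU hfix (mul_mem (mul_mem hg htG) (inv_mem hg)) hx0fix
  set x' : ↥(D.group F) := ⟨x, hx⟩
  have hxpow : ∀ k : ℕ, mapGL D ι ((x' ^ k : ↥(D.group F)) : GL D.Idx F) = g * t ^ k * g⁻¹ := fun k => by
    rw [SubgroupClass.coe_pow, map_pow, hxe, conj_pow]
  have htpow : ∀ k : ℕ, t ^ k = 1 ↔ N ∣ k := by
    intro k
    have hpw : ∀ s, G.torusVal (z ^ k) s = G.torusVal z s ^ k := fun s => by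
      induction k with
      | zero => rw [pow_zero, pow_zero, G.torusVal_one]
      | succ k ih => rw [pow_succ, pow_succ, G.torusVal_mul, ih]
    rw [← map_pow, G.torus_eq_one_iff]
    constructor
    · intro h
      have := h T.α₀ hα
      rw [hpw, hval _ hα, hbase, zpow_one] at this
      exact hζ.dvd_of_pow_eq_one k this
    · rintro ⟨j, rfl⟩ s hs
      rw [hpw, hval s hs, ← zpow_natCast (ζ ^ _), ← zpow_mul]
      exact (hζ.zpow_eq_one_iff_dvd _).2 ⟨expo T q s * j, by push_cast; ring⟩
  have hord : orderOf x' = N := by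
    refine Nat.dvd_antisymm ?_ ((htpow _).1 ?_)
    · rw [orderOf_dvd_iff_pow_eq_one]
      refine Subtype.ext (mapGL_injective ι ?_)
      rw [hxpow, (htpow N).2 dvd_rfl, mul_one, mul_inv_cancel]
      simp
    · have h1 := hxpow (orderOf x')
      rw [pow_orderOf_eq_one, OneMemClass.coe_one, map_one] at h1
      exact conj_eq_one_iff.1 h1.symm
  exact ⟨x', hord⟩

end Cfsg.Agent.H48.G2Spec
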